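import Mathlib

/-!
# Finite type on an open subset of a base change descends near each point
-/

set_option autoImplicit false
set_option backward.isDefEq.respectTransparency false

noncomputable section

universe u

open TensorProduct

namespace Groth.Agent.GrpFTOpen

variable {k C B : Type u} [Field k] [CommRing C] [CommRing B] [Algebra k C] [Algebra k B]

/-- If a localisation of `C ⊗ B` is of finite type over `C`, then it comes from a finitely generated
subalgebra of `B`. -/
theorem exists_subalgebra (s : C ⊗[k] B) [Algebra.FiniteType C (Localization.Away s)] :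
    ∃ B0 : Subalgebra k B, B0.FG ∧ s ∈ B0.baseChange C ∧
      ∀ x : C ⊗[k] B, ∃ n : ℕ, s ^ n * x ∈ B0.baseChange C := by
  classical
  obtain ⟨T, hT⟩ := ‹Algebra.FiniteType C (Localization.Away s)›.out
  have hy : ∀ t : Localization.Away s, ∃ (y : C ⊗[k] B) (n : ℕ),
      t * algebraMap _ (Localization.Away s) (s ^ n) = algebraMap _ _ y := fun t => by
    obtain ⟨n, y, h⟩ := IsLocalization.Away.surj s t
    exact ⟨y, n, by rw [map_pow]; exact h⟩
  choose y ny hy using hy
  have hfg : ∀ x : C ⊗[k] B, ∃ D : Subalgebra k B, D.FG ∧ x ∈ D.baseChange C := exists_fg_and_mem_baseChange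
  choose D hD hxD using hfg
  let B0 : Subalgebra k B := (insert s (T.image y)).sup D
  have hle : ∀ x ∈ insert s (T.image y), x ∈ B0.baseChange C := fun x hx => by
    have h : D x ≤ B0 := Finset.le_sup hx
    have hmono : (D x).baseChange C ≤ B0.baseChange C := by
      rintro z ⟨w, rfl⟩
      induction w with
      | zero => simp
      | tmul c a =>
        exact Subalgebra.tmul_mem_baseChange (h a.2) c
      | add a b ha hb => rw [map_add]; exact add_mem ha hb
    exact hmono (hxD x)
  have hB0 : B0.FG := by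
    refine Finset.sup_induction (p := fun E : Subalgebra k B => E.FG) ?_ (fun a ha b hb => ha.sup hb)
      (fun x _ => hD x)
    exact Subalgebra.fg_bot
  have hs := hle s (Finset.mem_insert_self _ _)
  refine ⟨B0, hB0, hs, fun x => ?_⟩
  let p : Localization.Away s → Prop := fun t =>
    ∃ (n : ℕ) (r : C ⊗[k] B), r ∈ B0.baseChange C ∧ t * algebraMap _ _ (s ^ n) = algebraMap _ _ r
  have hall : ∀ t, p t := by
    intro t
    have ht : t ∈ Algebra.adjoin C (T : Set (Localization.Away s)) := hT ▸ Algebra.mem_top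
    induction ht using Algebra.adjoin_induction with
    | mem t ht => exact ⟨ny t, y t, hle _ (Finset.mem_insert_of_mem (Finset.mem_image_of_mem _ ht)), hy t⟩
    | algebraMap c =>
      exact ⟨0, algebraMap C _ c, Subalgebra.algebraMap_mem _ c, by
        rw [pow_zero, map_one, mul_one, ← IsScalarTower.algebraMap_apply]⟩
    | add a b _ _ ha hb =>
      obtain ⟨n, r, hr, hn⟩ := ha
      obtain ⟨m, q, hq, hm⟩ := hb
      refine ⟨n + m, r * s ^ m + q * s ^ n,
        add_mem (mul_mem hr (pow_mem hs m)) (mul_mem hq (pow_mem hs n)), ?_⟩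
      rw [map_add, map_mul, map_mul, ← hn, ← hm]
      simp only [pow_add, map_mul, map_pow]
      ring
    | mul a b _ _ ha hb =>
      obtain ⟨n, r, hr, hn⟩ := ha
      obtain ⟨m, q, hq, hm⟩ := hb
      refine ⟨n + m, r * q, mul_mem hr hq, ?_⟩
      rw [map_mul, ← hn, ← hm]
      simp only [pow_add, map_mul, map_pow]
      ring
  obtain ⟨n, r, hr, hn⟩ := hall (algebraMap _ _ x)
  rw [← map_mul, IsLocalization.eq_iff_exists (Submonoid.powers s)] at hn
  obtain ⟨⟨_, m, rfl⟩, hm⟩ := hn
  refine ⟨m + n, ?_⟩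
  have h2 : s ^ (m + n) * x = s ^ m * r := by
    simp only at hm
    rw [← hm, pow_add]
    ring
  rw [h2]
  exact mul_mem (pow_mem hs m) hr

/-- Elements of the base change of a kernel lie in the extended ideal. -/
theorem map_ker_le {B0 Q : Type u} [CommRing B0] [Algebra k B0] [AddCommGroup Q] [Module k Q] (g : B0 →ₗ[k] Q)
    (I : Ideal B0) (hI : ∀ a, g a = 0 → a ∈ I) (w : C ⊗[k] B0) (hw : g.lTensor C w = 0) :
    w ∈ I.map (Algebra.TensorProduct.includeRight : B0 →ₐ[k] C ⊗[k] B0).toRingHom := by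
  obtain ⟨v, rfl⟩ := (Module.Flat.lTensor_exact C (LinearMap.exact_subtype_ker_map g) w).mp hw
  clear hw
  induction v with
  | zero => simp
  | tmul c a =>
    have h : (c ⊗ₜ[k] (a : B0) : C ⊗[k] B0) =
        (c ⊗ₜ[k] 1) * (Algebra.TensorProduct.includeRight : B0 →ₐ[k] C ⊗[k] B0).toRingHom a := by
      simp
    rw [LinearMap.lTensor_tmul, Submodule.subtype_apply, h]
    exact Ideal.mul_mem_left _ _ (Ideal.mem_map_of_mem _ (hI _ a.2))
  | add a b ha hb => rw [map_add]; exact add_mem ha hb

theorem exists_away_finiteType (s : C ⊗[k] B) [Algebra.FiniteType C (Localization.Away s)]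
    (P : Ideal (C ⊗[k] B)) [P.IsPrime] (hsP : s ∉ P) :
    ∃ e : B, (1 : C) ⊗ₜ[k] e ∉ P ∧ Algebra.FiniteType k (Localization.Away e) := by
  classical
  obtain ⟨B0, hB0, hs, hall⟩ := exists_subalgebra s
  let ι : C ⊗[k] B0 →ₐ[C] C ⊗[k] B := Algebra.TensorProduct.map (AlgHom.id C C) B0.val
  obtain ⟨σ, hσ⟩ : ∃ σ, ι σ = s := hs
  let iR : B0 →+* C ⊗[k] B0 := (Algebra.TensorProduct.includeRight : B0 →ₐ[k] C ⊗[k] B0).toRingHom
  have hopen : IsOpenMap (PrimeSpectrum.comap iR) := by
    let e := (Algebra.TensorProduct.comm k B0 C).toRingEquiv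
    have h1 : iR = e.toRingHom.comp (algebraMap B0 (B0 ⊗[k] C)) := by
      ext a
      simp [iR, e]
    have h2 : IsOpenMap (PrimeSpectrum.comap e.toRingHom) :=
      (PrimeSpectrum.homeomorphOfRingEquiv e).symm.isOpenMap
    rw [h1, PrimeSpectrum.comap_comp]
    exact PrimeSpectrum.isOpenMap_comap_algebraMap_tensorProduct_of_field.comp h2
  let P0 : PrimeSpectrum (C ⊗[k] B0) := ⟨P.comap ι.toRingHom, inferInstance⟩
  have hP0 : P0 ∈ (PrimeSpectrum.basicOpen σ : Set (PrimeSpectrum (C ⊗[k] B0))) := by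
    show σ ∉ P.comap ι.toRingHom
    rw [Ideal.mem_comap]
    show ι σ ∉ P
    rwa [hσ]
  obtain ⟨_, ⟨_, ⟨e, rfl⟩, rfl⟩, heP, heO⟩ := PrimeSpectrum.isBasis_basic_opens.exists_subset_of_mem_open
    (Set.mem_image_of_mem _ hP0) (hopen _ (PrimeSpectrum.basicOpen σ).isOpen)
  refine ⟨e, fun h => ?_, ?_⟩
  · refine heP (?_ : iR e ∈ P.comap ι.toRingHom)
    rw [Ideal.mem_comap]
    show ι ((1 : C) ⊗ₜ[k] e) ∈ P
    simpa [ι] using h
  have key : ∀ b : B, ∃ n : ℕ, (e : B) ^ n * b ∈ B0 := by
    intro b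
    let K := Subalgebra.toSubmodule B0
    let g : B0 →ₗ[k] B ⧸ K := (K.mkQ ∘ₗ LinearMap.mulRight k b) ∘ₗ B0.val.toLinearMap
    let I : Ideal B0 :=
      { carrier := {a | (a : B) * b ∈ B0}
        zero_mem' := by simp
        add_mem' := fun {x y} hx hy => by
          show ((x + y : B0) : B) * b ∈ B0
          rw [Subalgebra.coe_add, add_mul]
          exact add_mem hx hy
        smul_mem' := fun c x hx => by
          show ((c * x : B0) : B) * b ∈ B0
          rw [Subalgebra.coe_mul, mul_assoc]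
          exact mul_mem c.2 hx }
    have hg : ∀ w : C ⊗[k] B0, g.lTensor C w = K.mkQ.lTensor C (ι w * ((1 : C) ⊗ₜ[k] b)) := by
      intro w
      induction w with
      | zero => simp
      | tmul c a => simp [g, ι]
      | add a a' ha ha' => rw [map_add, map_add, add_mul, map_add, ha, ha']
    have hr : ∀ r : C ⊗[k] B0, K.mkQ.lTensor C (ι r) = 0 := by
      intro r
      induction r with
      | zero => simp
      | tmul c a =>
        have : K.mkQ (a : B) = 0 := (Submodule.Quotient.mk_eq_zero K).mpr a.2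
        simp only [ι, Algebra.TensorProduct.map_tmul, AlgHom.id_apply, Subalgebra.coe_val,
          LinearMap.lTensor_tmul, this, tmul_zero]
      | add a a' ha ha' => rw [map_add, map_add, ha, ha', add_zero]
    obtain ⟨n, r, hn⟩ : ∃ (n : ℕ) (r : C ⊗[k] B0), ι r = s ^ n * ((1 : C) ⊗ₜ[k] b) := by
      obtain ⟨n, r, hr⟩ := hall ((1 : C) ⊗ₜ[k] b)
      exact ⟨n, r, hr⟩
    have hσn : σ ^ n ∈ I.map iR := by
      refine map_ker_le g I (fun a ha => ?_) _ ?_
      · exact (Submodule.Quotient.mk_eq_zero K).mp ha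
      · rw [hg, map_pow, hσ, ← hn, hr]
    have he : e ∈ I.radical := by
      rw [Ideal.radical_eq_sInf]
      refine Submodule.mem_sInf.mpr fun Q ⟨hIQ, hQ⟩ => ?_
      by_contra heQ
      obtain ⟨P', hP', hP'Q⟩ := heO (show (⟨Q, hQ⟩ : PrimeSpectrum B0) ∈ (PrimeSpectrum.basicOpen e : Set _) from heQ)
      refine hP' (P'.isPrime.mem_of_pow_mem n (?_ : σ ^ n ∈ P'.asIdeal))
      refine Ideal.map_le_iff_le_comap.mpr ?_ hσn
      exact hIQ.trans (le_of_eq (congrArg PrimeSpectrum.asIdeal hP'Q).symm)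
    obtain ⟨m, hm⟩ := he
    exact ⟨m, by have h : ((e ^ m : B0) : B) * b ∈ B0 := hm; rwa [Subalgebra.coe_pow] at h⟩
  obtain ⟨F, hF⟩ := hB0
  let inv : Localization.Away (e : B) := IsLocalization.Away.invSelf (e : B)
  refine ⟨⟨insert inv (F.image (algebraMap B (Localization.Away (e : B)))), eq_top_iff.mpr fun x _ => ?_⟩⟩
  obtain ⟨m, b, hb⟩ := IsLocalization.Away.surj (e : B) x
  obtain ⟨n, hn⟩ := key b
  have hx : x = algebraMap B _ ((e : B) ^ n * b) * inv ^ (n + m) := by
    have h1 : algebraMap B (Localization.Away (e : B)) (e : B) * inv = 1 := IsLocalization.Away.mul_invSelf _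
    rw [map_mul, map_pow, ← hb]
    calc x = x * (algebraMap B _ (e : B) * inv) ^ (n + m) := by rw [h1, one_pow, mul_one]
      _ = _ := by rw [mul_pow, pow_add]; ring
  rw [hx]
  refine mul_mem ?_ (pow_mem (Algebra.subset_adjoin (by simp)) _)
  have hle : Algebra.adjoin k (F : Set B) ≤
      (Algebra.adjoin k (↑(insert inv (F.image (algebraMap B (Localization.Away (e : B))))) : Set _)).comap
        (IsScalarTower.toAlgHom k B (Localization.Away (e : B))) :=
    Algebra.adjoin_le fun a ha => Algebra.subset_adjoin (by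
      simp only [Finset.coe_insert, Finset.coe_image]
      exact Or.inr ⟨a, ha, rfl⟩)
  exact (hF.symm.le.trans hle) hn

end Groth.Agent.GrpFTOpen
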