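import Mathlib
import Groth.Agent.GrpFTOpenLib.Alg
import Groth.Agent.HomTranslLib.Basic

/-!
# A group scheme over a field which is locally of finite type somewhere is so everywhere
-/

set_option autoImplicit false
set_option backward.isDefEq.respectTransparency false

noncomputable section

universe u

open CategoryTheory CategoryTheory.Limits MonoidalCategory CartesianMonoidalCategory AlgebraicGeometry
open scoped MonObj TensorProduct

namespace Groth.Agent.GrpFTOpen

variable {k : Type u} [Field k]

theorem lft_of_open (G : Over (Spec (CommRingCat.of k))) [GrpObj G] (W : G.left.Opens)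
    (hW : (W : Set G.left).Nonempty) [LocallyOfFiniteType (W.ι ≫ G.hom)] : LocallyOfFiniteType G.hom := by
  obtain ⟨x₀, hx₀⟩ := hW
  let ph := HomTransl.φG (G := G)
  let V : (G ⊗ G).left.Opens := (snd G G).left ⁻¹ᵁ W
  let V' : (G ⊗ G).left.Opens := ph.inv.left ⁻¹ᵁ V
  haveI hV : LocallyOfFiniteType (V.ι ≫ (fst G G).left) :=
    MorphismProperty.of_isPullback ((isPullback_morphismRestrict (snd G G).left W).paste_vert
      (show IsPullback (snd G G).left (fst G G).left G.hom G.hom from
        (IsPullback.of_hasPullback G.hom G.hom).flip))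
      (show LocallyOfFiniteType (W.ι ≫ G.hom) from inferInstance)
  haveI hV' : LocallyOfFiniteType (V'.ι ≫ (fst G G).left) := by
    have h : ph.inv ≫ fst G G = fst G G := by
      rw [Iso.inv_comp_eq]
      simp [ph, HomTransl.φG, GrpShear.shear]
    haveI : IsIso ph.inv.left := ((Over.forget _).mapIso ph.symm).isIso_hom
    have h' : ph.inv.left ≫ (fst G G).left = (fst G G).left := by rw [← Over.comp_left, h]
    rw [show V'.ι ≫ (fst G G).left = (ph.inv.left ∣_ V) ≫ V.ι ≫ (fst G G).left by
      rw [morphismRestrict_ι_assoc, h']]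
    infer_instance
  have key : ∀ z : G.left, ∃ D : G.left.Opens, z ∈ D ∧ LocallyOfFiniteType (D.ι ≫ G.hom) := by
    intro z
    obtain ⟨p, hp₁, hp₂⟩ := HomTransl.exists_point (G := G) x₀ z (Subsingleton.elim _ _)
    let q : ↥(G ⊗ G).left := ph.hom.left.base p
    have hqz : (snd G G).left.base q = z := hp₂
    have hqV : q ∈ V' := by
      show (snd G G).left.base (ph.inv.left.base (ph.hom.left.base p)) ∈ W
      have e : ph.hom.left ≫ ph.inv.left = 𝟙 _ := by rw [← Over.comp_left, Iso.hom_inv_id]; rfl
      have e' : ph.inv.left.base (ph.hom.left.base p) = p := congrArg (fun m => m.base p) e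
      rw [e']
      exact hp₁.symm ▸ hx₀
    obtain ⟨U₁, hU₁, hq₁, -⟩ := exists_isAffineOpen_mem_and_subset (X := G.left)
      (x := (fst G G).left.base q) (U := ⊤) trivial
    obtain ⟨U, hU, hz, -⟩ := exists_isAffineOpen_mem_and_subset (X := G.left) (x := z) (U := ⊤) trivial
    let aC : CommRingCat.of k ⟶ Γ(G.left, U₁) := Spec.preimage (hU₁.fromSpec ≫ G.hom)
    let aB : CommRingCat.of k ⟶ Γ(G.left, U) := Spec.preimage (hU.fromSpec ≫ G.hom)
    letI : Algebra k Γ(G.left, U₁) := aC.hom.toAlgebra
    letI : Algebra k Γ(G.left, U) := aB.hom.toAlgebra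
    let C : Type u := Γ(G.left, U₁)
    let B : Type u := Γ(G.left, U)
    let M := pullback.map (Spec.map aC) (Spec.map aB) G.hom G.hom hU₁.fromSpec hU.fromSpec (𝟙 _)
      (by rw [Category.comp_id, Spec.map_preimage]) (by rw [Category.comp_id, Spec.map_preimage])
    haveI : IsOpenImmersion M := inferInstance
    let j : Spec (CommRingCat.of (C ⊗[k] B)) ⟶ (G ⊗ G).left := (pullbackSpecIso k C B).inv ≫ M
    haveI : IsOpenImmersion j := inferInstance
    have hq : q ∈ Set.range j.base := by
      obtain ⟨w, hw⟩ : q ∈ Set.range M.base := by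
        rw [Scheme.Pullback.range_map]
        exact ⟨by rw [hU₁.range_fromSpec]; exact hq₁, by
          rw [hU.range_fromSpec]
          show (snd G G).left.base q ∈ U
          rw [hqz]
          exact hz⟩
      exact ⟨(pullbackSpecIso k C B).hom.base w, by
        show M.base ((pullbackSpecIso k C B).inv.base ((pullbackSpecIso k C B).hom.base w)) = q
        rw [Scheme.hom_inv_apply]; exact hw⟩
    obtain ⟨P, hP⟩ := hq
    obtain ⟨_, ⟨_, ⟨s, rfl⟩, rfl⟩, hPs, hsV⟩ := PrimeSpectrum.isBasis_basic_opens.exists_subset_of_mem_open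
      (show P ∈ ((j ⁻¹ᵁ V' : (Spec (CommRingCat.of (C ⊗[k] B))).Opens) : Set _) by
        show j.base P ∈ V'
        rw [hP]
        exact hqV)
      (j ⁻¹ᵁ V').isOpen
    haveI : Algebra.FiniteType C (Localization.Away s) := by
      let f : Spec (CommRingCat.of (Localization.Away s)) ⟶ (G ⊗ G).left :=
        Spec.map (CommRingCat.ofHom (algebraMap (C ⊗[k] B) (Localization.Away s))) ≫ j
      have hr : Set.range f.base ⊆ Set.range V'.ι.base := by
        rw [Scheme.Opens.range_ι]
        rintro _ ⟨w, rfl⟩
        refine hsV ?_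
        exact (PrimeSpectrum.localization_away_comap_range (Localization.Away s) s).subset ⟨w, rfl⟩
      haveI : LocallyOfFiniteType (f ≫ (fst G G).left) := by
        haveI : IsOpenImmersion f := inferInstance
        haveI : IsOpenImmersion (IsOpenImmersion.lift V'.ι f hr) := by
          haveI : IsOpenImmersion (IsOpenImmersion.lift V'.ι f hr ≫ V'.ι) := by
            rw [IsOpenImmersion.lift_fac]; infer_instance
          exact IsOpenImmersion.of_comp _ V'.ι
        rw [← IsOpenImmersion.lift_fac V'.ι f hr, Category.assoc]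
        infer_instance
      have h : f ≫ (fst G G).left =
          Spec.map (CommRingCat.ofHom (algebraMap C (Localization.Away s))) ≫ hU₁.fromSpec := by
        show (Spec.map _ ≫ (pullbackSpecIso k C B).inv ≫ M) ≫ pullback.fst G.hom G.hom = _
        rw [Category.assoc, Category.assoc, pullback.lift_fst]
        refine (congrArg (Spec.map _ ≫ ·) ((Category.assoc _ _ _).symm.trans
          (congrArg (· ≫ hU₁.fromSpec) (pullbackSpecIso_inv_fst k C B)))).trans ?_
        rw [← Spec.map_comp_assoc]
        rfl
      rw [h] at this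
      have := locallyOfFiniteType_of_comp
        (Spec.map (CommRingCat.ofHom (algebraMap C (Localization.Away s)))) hU₁.fromSpec
      exact RingHom.finiteType_algebraMap.mp ((HasRingHomProperty.Spec_iff (P := @LocallyOfFiniteType)).mp this)
    obtain ⟨e, he, hfin⟩ := exists_away_finiteType s P.asIdeal hPs
    let g : Spec (CommRingCat.of (Localization.Away e)) ⟶ G.left :=
      Spec.map (CommRingCat.ofHom (algebraMap B (Localization.Away e))) ≫ hU.fromSpec
    haveI : IsOpenImmersion g := inferInstance
    haveI : LocallyOfFiniteType (g ≫ G.hom) := by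
      have h : g ≫ G.hom = Spec.map (CommRingCat.ofHom (algebraMap k (Localization.Away e))) := by
        show (Spec.map _ ≫ _) ≫ _ = _
        rw [Category.assoc, ← Spec.map_preimage (hU.fromSpec ≫ G.hom), ← Spec.map_comp]
        rfl
      rw [h]
      exact (HasRingHomProperty.Spec_iff (P := @LocallyOfFiniteType)).mpr
        (RingHom.finiteType_algebraMap.mpr hfin)
    refine ⟨g.opensRange, ?_, ?_⟩
    · have hsnd : z = hU.fromSpec.base (PrimeSpectrum.comap
          ((Algebra.TensorProduct.includeRight : B →ₐ[k] C ⊗[k] B).toRingHom) P) := by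
        have h : j ≫ (snd G G).left =
            Spec.map (CommRingCat.ofHom ((Algebra.TensorProduct.includeRight : B →ₐ[k] C ⊗[k] B).toRingHom))
              ≫ hU.fromSpec := by
          show ((pullbackSpecIso k C B).inv ≫ M) ≫ pullback.snd G.hom G.hom = _
          rw [Category.assoc, pullback.lift_snd]
          exact (Category.assoc _ _ _).symm.trans
            (congrArg (· ≫ hU.fromSpec) (pullbackSpecIso_inv_snd k C B))
        rw [← hqz, ← hP]
        exact congrArg (fun m => m.base P) h
      obtain ⟨w, hw⟩ : PrimeSpectrum.comap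
          ((Algebra.TensorProduct.includeRight : B →ₐ[k] C ⊗[k] B).toRingHom) P ∈
          Set.range (PrimeSpectrum.comap (algebraMap B (Localization.Away e))) := by
        rw [PrimeSpectrum.localization_away_comap_range (Localization.Away e) e]
        exact he
      exact ⟨w, (congrArg hU.fromSpec.base hw).trans hsnd.symm⟩
    · rw [← (IsOpenImmersion.isoOfRangeEq g g.opensRange.ι
        (by rw [Scheme.Opens.range_ι]; rfl)).inv_hom_id_assoc (g.opensRange.ι ≫ G.hom)]
      rw [IsOpenImmersion.isoOfRangeEq_hom_fac_assoc]
      infer_instance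
  choose D hzD hD using key
  refine (IsZariskiLocalAtSource.iff_of_iSup_eq_top (P := @LocallyOfFiniteType) D ?_).mpr hD
  exact top_le_iff.mp fun z _ => TopologicalSpace.Opens.mem_iSup.mpr ⟨z, hzD z⟩

end Groth.Agent.GrpFTOpen
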