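import Mathlib
import Groth.Prelude
import Groth.Agent.GrpFTOpenLib.Field
import Groth.Agent.SweepSix.Thick

/-!
# A group scheme over an artinian ring which is locally of finite type somewhere is so everywhere
-/

set_option autoImplicit false
set_option backward.isDefEq.respectTransparency false

noncomputable section

universe u

open CategoryTheory CategoryTheory.Limits MonoidalCategory CartesianMonoidalCategory AlgebraicGeometry
open scoped MonObj

namespace Groth.Agent.GrpFTOpen

variable (A : Type u) [CommRing A] [IsLocalRing A]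

/-- The closed point of `Spec A` as a morphism from the spectrum of the residue field. -/
abbrev closedPt : Spec (CommRingCat.of (IsLocalRing.ResidueField A)) ⟶ Spec (CommRingCat.of A) :=
  Spec.map (CommRingCat.ofHom (IsLocalRing.residue A))

theorem finiteOrder_closedPt [IsArtinianRing A] : MoreMor.IsFiniteOrderThickening (closedPt A) := by
  obtain ⟨n, hn⟩ := IsArtinianRing.isNilpotent_jacobson_bot (R := A)
  rw [IsLocalRing.jacobson_eq_maximalIdeal _ bot_ne_top] at hn
  refine ⟨⟨IsClosedImmersion.spec_of_surjective _ IsLocalRing.residue_surjective, ⟨fun p => ?_⟩⟩, n,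
    Scheme.IdealSheafData.ext_of_isAffine ?_⟩
  · refine (Set.ext_iff.mp (range_comap_of_surjective _ _ IsLocalRing.residue_surjective) p).mpr ?_
    intro a ha
    rw [IsLocalRing.ker_residue] at ha
    have h : a ^ n ∈ IsLocalRing.maximalIdeal A ^ n := Ideal.pow_mem_pow ha n
    rw [hn] at h
    exact p.2.mem_of_pow_mem n (h ▸ p.asIdeal.zero_mem)
  · haveI : IsClosedImmersion (closedPt A) :=
      IsClosedImmersion.spec_of_surjective _ IsLocalRing.residue_surjective
    rw [Scheme.IdealSheafData.ideal_pow, Pi.pow_apply, Scheme.Hom.ker_apply]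
    let e : Γ(Spec (CommRingCat.of A), ⊤) ≃+* A := (Scheme.ΓSpecIso (CommRingCat.of A)).commRingCatIsoToRingEquiv
    show RingHom.ker (closedPt A).appTop.hom ^ n = ⊥
    have hle : RingHom.ker (closedPt A).appTop.hom ≤ (IsLocalRing.maximalIdeal A).comap e.toRingHom := by
      intro x hx
      rw [← IsLocalRing.ker_residue, RingHom.comap_ker, RingHom.mem_ker]
      have h := congrArg (fun m => m.hom x)
        (Scheme.ΓSpecIso_naturality (CommRingCat.ofHom (IsLocalRing.residue A)))
      refine (h.symm.trans ?_)
      show (Scheme.ΓSpecIso _).hom ((closedPt A).appTop x) = 0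
      rw [show (closedPt A).appTop x = 0 from hx, map_zero]
    refine le_bot_iff.mp ((Ideal.pow_right_mono hle n).trans ((Ideal.le_comap_pow _ n).trans ?_))
    rw [hn]
    intro x hx
    exact e.injective ((Ideal.mem_bot.mp hx).trans e.map_zero.symm)

theorem lft_of_open_artinian [IsArtinianRing A] (G : Over (Spec (CommRingCat.of A))) [GrpObj G] (W : G.left.Opens)
    (hW : (W : Set G.left).Nonempty) [LocallyOfFiniteType (W.ι ≫ G.hom)] : LocallyOfFiniteType G.hom := by
  have hY := finiteOrder_closedPt A
  haveI : Surjective (closedPt A) := hY.1.2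
  haveI : GrpObj (Over.mk G.hom) := inferInstanceAs (GrpObj G)
  letI : GrpObj (Over.mk (pullback.snd G.hom (closedPt A))) := Over.grpObjMkPullbackSnd
  let fs := pullback.fst G.hom (closedPt A)
  haveI : Surjective fs := MorphismProperty.pullback_fst (P := @Surjective) _ _ inferInstance
  haveI : LocallyOfFiniteType ((fs ⁻¹ᵁ W).ι ≫ (Over.mk (pullback.snd G.hom (closedPt A))).hom) :=
    MorphismProperty.of_isPullback
      ((isPullback_morphismRestrict fs W).paste_vert (IsPullback.of_hasPullback G.hom (closedPt A)))
      (show LocallyOfFiniteType (W.ι ≫ G.hom) from inferInstance)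
  have hne : ((fs ⁻¹ᵁ W : (pullback G.hom (closedPt A)).Opens) : Set ↥(pullback G.hom (closedPt A))).Nonempty := by
    obtain ⟨x, hx⟩ := hW
    obtain ⟨y, rfl⟩ := fs.surjective x
    exact ⟨y, hx⟩
  haveI : LocallyOfFiniteType (pullback.snd G.hom (closedPt A)) :=
    lft_of_open (k := IsLocalRing.ResidueField A) (Over.mk (pullback.snd G.hom (closedPt A))) (fs ⁻¹ᵁ W) hne
  exact SweepSix.locallyOfFiniteType_of_finiteOrder hY (IsPullback.of_hasPullback G.hom (closedPt A)) inferInstance

end Groth.Agent.GrpFTOpen
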